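import Groth.Prelude.Def_PLie
import Mathlib.Algebra.Lie.Engel
import Mathlib.Algebra.Lie.Solvable
import Mathlib.Algebra.CharP.Basic

/-! Elementary properties of p-maps: radicals and nilpotent ideals. -/

set_option autoImplicit false

universe u v w

attribute [local instance 100] LieRing.ofAssociativeRing

namespace Groth.Agent.PLie29

open PLie LieAlgebra

variable {R : Type u} [CommRing R] {p : ℕ} [CharP R p]
variable {L : Type v} [LieRing L] [LieAlgebra R L]

theorem lie_pmap (φ : PMap R p L) (x z : L) : ⁅φ x, z⁆ = (ad R L x ^ p) z := by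
  rw [← φ.ad_map]; rfl

theorem map_ad_pow {L' : Type w} [LieRing L'] [LieAlgebra R L'] (f : L →ₗ⁅R⁆ L') (x : L) (n : ℕ)
    (z : L) : f ((ad R L x ^ n) z) = (ad R L' (f x) ^ n) (f z) := by
  induction n generalizing z with
  | zero => rfl
  | succ n ih => rw [pow_succ, pow_succ, Module.End.mul_apply, Module.End.mul_apply, ih]; simp

theorem sub_mem_center_of_surjective {L' : Type w} [LieRing L'] [LieAlgebra R L']
    (φ : PMap R p L) (f : L →ₗ⁅R⁆ L') (hf : Function.Surjective f) (x : L) (w : L')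
    (hw : ad R L' w = ad R L' (f x) ^ p) : f (φ x) - w ∈ center R L' := by
  rw [LieModule.mem_maxTrivSubmodule]
  intro z
  obtain ⟨z, rfl⟩ := hf z
  rw [← lie_skew, sub_lie, ← LieHom.map_lie, lie_pmap, map_ad_pow, neg_eq_zero, sub_eq_zero,
    ← hw]
  rfl

theorem ad_iterate (φ : PMap R p L) (x : L) (n : ℕ) :
    ad R L (φ.toFun^[n] x) = ad R L x ^ p ^ n := by
  induction n with
  | zero => simp
  | succ n ih => rw [Function.iterate_succ_apply', φ.ad_map, ih, ← pow_mul, ← pow_succ]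

theorem map_zero_pmap' [Fact p.Prime] (φ : PMap R p L) : φ 0 = 0 := by
  have h := φ.map_smul 0 0
  rwa [zero_smul, zero_pow (Fact.out : p.Prime).ne_zero, zero_smul] at h

theorem coe_ad_pow_ideal (I : LieIdeal R L) (w : I) (n : ℕ) (v : I) :
    ((ad R I w ^ n) v : L) = (ad R L (w : L) ^ n) (v : L) :=
  map_ad_pow I.incl w n v

theorem isNilpotent_of_forall_ad [IsNoetherian R L] (I : LieIdeal R L)
    (h : ∀ x ∈ I, IsNilpotent (ad R L x)) : LieRing.IsNilpotent I := by
  haveI : IsNoetherian R I := isNoetherian_submodule' I.toSubmodule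
  rw [LieAlgebra.isNilpotent_iff_forall (R := R)]
  intro w
  obtain ⟨n, hn⟩ := h w w.2
  refine ⟨n, LinearMap.ext fun v => Subtype.ext ?_⟩
  rw [coe_ad_pow_ideal, hn]
  rfl

theorem lcs_succ_le_map (N : LieIdeal R L) (k : ℕ) :
    (N.lcs L (k + 1)).toSubmodule ≤
      (LieModule.lowerCentralSeries R N N k).toSubmodule.map N.toSubmodule.subtype := by
  induction k with
  | zero =>
    intro z hz
    refine ⟨⟨z, ?_⟩, trivial, rfl⟩
    rw [LieIdeal.lcs_succ] at hz
    exact LieSubmodule.lie_le_left _ _ hz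
  | succ k ih =>
    rw [LieIdeal.lcs_succ, LieSubmodule.lieIdeal_oper_eq_linear_span', Submodule.span_le]
    rintro z ⟨n, hn, y, hy, rfl⟩
    obtain ⟨y', hy', rfl⟩ := ih hy
    refine ⟨⁅(⟨n, hn⟩ : N), y'⁆, ?_, rfl⟩
    rw [SetLike.mem_coe, LieSubmodule.mem_toSubmodule, LieModule.lowerCentralSeries_succ]
    exact LieSubmodule.lie_mem_lie (LieSubmodule.mem_top _) hy'

theorem exists_lcs_eq_bot (N : LieIdeal R L) (hN : LieRing.IsNilpotent N) :
    ∃ k, N.lcs L k = ⊥ := by
  obtain ⟨k, hk⟩ := LieModule.IsNilpotent.nilpotent R N N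
  refine ⟨k + 1, ?_⟩
  rw [← LieSubmodule.toSubmodule_eq_bot, eq_bot_iff]
  refine (lcs_succ_le_map N k).trans ?_
  rw [hk, LieSubmodule.bot_toSubmodule, Submodule.map_bot]

theorem lie_pmap_mem_of_mem [Fact p.Prime] (φ : PMap R p L) (N : LieIdeal R L) {x : L}
    (hx : x ∈ N) (z : L) : ⁅φ x, z⁆ ∈ N := by
  rw [lie_pmap, show p = (p - 1) + 1 from
    (Nat.sub_add_cancel (Fact.out : p.Prime).one_le).symm, pow_succ', Module.End.mul_apply, ad_apply]
  exact lie_mem_left R L N x _ hx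

/-- The ideal generated by an ideal and the image of one of its elements. -/
def extendIdeal [Fact p.Prime] (φ : PMap R p L) (N : LieIdeal R L) {x : L} (hx : x ∈ N) :
    LieIdeal R L :=
  { N.toSubmodule ⊔ (R ∙ φ x) with
    lie_mem := fun {y z} hz => by
      change z ∈ N.toSubmodule ⊔ (R ∙ φ x) at hz
      change ⁅y, z⁆ ∈ N.toSubmodule ⊔ (R ∙ φ x)
      obtain ⟨n, hn, c, hc, rfl⟩ := Submodule.mem_sup.mp hz
      obtain ⟨a, rfl⟩ := Submodule.mem_span_singleton.mp hc
      refine Submodule.mem_sup_left ?_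
      rw [lie_add, lie_smul, ← lie_skew y n, ← lie_skew y (φ x)]
      exact add_mem (N.neg_mem (lie_mem_left R L N n y hn))
        (N.smul_mem a (N.neg_mem (lie_pmap_mem_of_mem φ N hx y))) }

theorem le_extendIdeal [Fact p.Prime] (φ : PMap R p L) (N : LieIdeal R L) {x : L} (hx : x ∈ N) :
    N ≤ extendIdeal φ N hx := fun _ h => Submodule.mem_sup_left (T := R ∙ φ x) h

theorem pmap_mem_extendIdeal [Fact p.Prime] (φ : PMap R p L) (N : LieIdeal R L) {x : L}
    (hx : x ∈ N) : φ x ∈ extendIdeal φ N hx :=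
  Submodule.mem_sup_right (S := N.toSubmodule) (Submodule.mem_span_singleton_self _)

theorem lie_extendIdeal_le [Fact p.Prime] (φ : PMap R p L) (N : LieIdeal R L) {x : L}
    (hx : x ∈ N) (J : LieIdeal R L) : ⁅extendIdeal φ N hx, J⁆ ≤ N := by
  rw [LieSubmodule.lie_le_iff]
  intro z hz y _
  change z ∈ N.toSubmodule ⊔ (R ∙ φ x) at hz
  obtain ⟨n, hn, c, hc, rfl⟩ := Submodule.mem_sup.mp hz
  obtain ⟨a, rfl⟩ := Submodule.mem_span_singleton.mp hc
  rw [add_lie, smul_lie]
  exact add_mem (lie_mem_left R L N n y hn) (N.smul_mem a (lie_pmap_mem_of_mem φ N hx y))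

theorem isSolvable_extendIdeal [Fact p.Prime] (φ : PMap R p L) (N : LieIdeal R L)
    [IsSolvable N] {x : L} (hx : x ∈ N) : IsSolvable (extendIdeal φ N hx) := by
  obtain ⟨k, hk⟩ := IsSolvable.solvable R N
  refine IsSolvable.mk (R := R) (k := k + 1) ?_
  rw [LieIdeal.derivedSeries_eq_bot_iff] at hk ⊢
  rw [eq_bot_iff, derivedSeriesOfIdeal_add]
  refine le_trans (derivedSeriesOfIdeal_mono ?_ k) hk.le
  rw [derivedSeriesOfIdeal_succ, derivedSeriesOfIdeal_zero]
  exact lie_extendIdeal_le φ N hx _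

theorem isNilpotent_extendIdeal [IsNoetherian R L] [Fact p.Prime] (φ : PMap R p L)
    (N : LieIdeal R L) (hN : LieRing.IsNilpotent N) {x : L} (hx : x ∈ N) :
    LieRing.IsNilpotent (extendIdeal φ N hx) := by
  obtain ⟨K, hK⟩ := exists_lcs_eq_bot N hN
  refine isNilpotent_of_forall_ad _ fun z hz => ⟨K, ?_⟩
  have h1 : ∀ n ∈ N, ∀ k, ∀ v ∈ N.lcs L k, ⁅n, v⁆ ∈ N.lcs L (k + 1) := fun n hn k v hv => by
    rw [LieIdeal.lcs_succ]; exact LieSubmodule.lie_mem_lie hn hv
  have hstable : ∀ (j : ℕ) k, ∀ v ∈ N.lcs L k, (ad R L x ^ j) v ∈ N.lcs L k := by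
    intro j k v hv
    induction j with
    | zero => exact hv
    | succ j ih => rw [pow_succ', Module.End.mul_apply, ad_apply]; exact (N.lcs L k).lie_mem ih
  have h2 : ∀ k, ∀ v ∈ N.lcs L k, ⁅z, v⁆ ∈ N.lcs L (k + 1) := by
    intro k v hv
    change z ∈ N.toSubmodule ⊔ (R ∙ φ x) at hz
    obtain ⟨n, hn, c, hc, rfl⟩ := Submodule.mem_sup.mp hz
    obtain ⟨a, rfl⟩ := Submodule.mem_span_singleton.mp hc
    rw [add_lie, smul_lie]
    refine add_mem (h1 n hn k v hv) ((N.lcs L (k + 1)).smul_mem a ?_)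
    rw [lie_pmap, show p = (p - 1) + 1 from
      (Nat.sub_add_cancel (Fact.out : p.Prime).one_le).symm, pow_succ, Module.End.mul_apply,
      ad_apply]
    exact hstable _ _ _ (h1 x hx k v hv)
  have h3 : ∀ k (v : L), (ad R L z ^ k) v ∈ N.lcs L k := by
    intro k v
    induction k with
    | zero => trivial
    | succ k ih => rw [pow_succ', Module.End.mul_apply, ad_apply]; exact h2 k _ ih
  refine LinearMap.ext fun v => ?_
  have := h3 K v
  rwa [hK, LieSubmodule.mem_bot] at this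

theorem isNilpotent_ad_of_isPNilpotent (φ : PMap R p L) {x : L} (h : IsPNilpotent φ x) :
    IsNilpotent (ad R L x) := by
  obtain ⟨n, hn⟩ := h
  exact ⟨p ^ n, by rw [← ad_iterate φ, hn, map_zero]⟩

theorem isNilpotent_ad_of_mem [Fact p.Prime] (N : LieIdeal R L) (hN : LieRing.IsNilpotent N)
    {x : L} (hx : x ∈ N) : IsNilpotent (ad R L x) := by
  obtain ⟨K, hK⟩ := exists_lcs_eq_bot N hN
  have h : ∀ k (v : L), (ad R L x ^ k) v ∈ N.lcs L k := by
    intro k v
    induction k with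
    | zero => trivial
    | succ k ih =>
      rw [pow_succ', Module.End.mul_apply, ad_apply, LieIdeal.lcs_succ]
      exact LieSubmodule.lie_mem_lie hx ih
  refine ⟨K, LinearMap.ext fun v => ?_⟩
  have := h K v
  rwa [hK, LieSubmodule.mem_bot] at this

theorem pmap_mem_nilradical [IsNoetherian R L] [Fact p.Prime] (φ : PMap R p L) (N : LieIdeal R L)
    (hN : LieRing.IsNilpotent N) (hmax : ∀ I : LieIdeal R L, LieRing.IsNilpotent I → I ≤ N)
    {x : L} (hx : x ∈ N) : φ x ∈ N :=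
  hmax _ (isNilpotent_extendIdeal φ N hN hx) (pmap_mem_extendIdeal φ N hx)

theorem center_isNilpotent [IsNoetherian R L] : LieRing.IsNilpotent (center R L) := by
  refine isNilpotent_of_forall_ad _ fun z hz => ⟨1, LinearMap.ext fun v => ?_⟩
  rw [pow_one, LinearMap.zero_apply, ad_apply, ← lie_skew, neg_eq_zero]
  exact (LieModule.mem_maxTrivSubmodule R L L z).mp hz v

end Groth.Agent.PLie29
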