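import Groth.Agent.PLie29.Identities
import Mathlib.LinearAlgebra.Basis.Basic

/-! The p-map of a free Lie algebra-module with prescribed values on a basis. -/

set_option autoImplicit false

universe u v w

attribute [local instance 100] LieRing.ofAssociativeRing

namespace Groth.Agent.PLie29

open PLie

variable {R : Type u} [CommRing R] {p : ℕ} [Fact p.Prime] [CharP R p]
variable {L : Type v} [LieRing L] [LieAlgebra R L]

/-- The twisted sum of L with itself. -/
def Ext2 (_R : Type u) (_p : ℕ) (L : Type v) : Type v := L × L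

noncomputable instance : Zero (Ext2 R p L) := ⟨((0 : L), (0 : L))⟩
noncomputable instance : Add (Ext2 R p L) :=
  ⟨fun u v => (u.1 + v.1, u.2 + v.2 - jacobson R p u.1 v.1)⟩
noncomputable instance : SMul R (Ext2 R p L) := ⟨fun c u => (c • u.1, c ^ p • u.2)⟩

theorem ext2_add_def (u v : Ext2 R p L) :
    u + v = ((u.1 + v.1, u.2 + v.2 - jacobson R p u.1 v.1) : L × L) := rfl

theorem ext2_smul_def (c : R) (u : Ext2 R p L) : c • u = ((c • u.1, c ^ p • u.2) : L × L) := rfl

theorem ext2_zero_def : (0 : Ext2 R p L) = (((0 : L), (0 : L)) : L × L) := rfl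

theorem ext2_ext {u v : Ext2 R p L} (h1 : u.1 = v.1) (h2 : u.2 = v.2) : u = v := Prod.ext h1 h2

noncomputable instance : AddCommMonoid (Ext2 R p L) where
  add_assoc u v w := ext2_ext (add_assoc u.1 v.1 w.1) (by
    show u.2 + v.2 - jacobson R p u.1 v.1 + w.2 - jacobson R p (u.1 + v.1) w.1 =
      u.2 + (v.2 + w.2 - jacobson R p v.1 w.1) - jacobson R p u.1 (v.1 + w.1)
    have h := jacobson_cocycle (R := R) (p := p) u.1 v.1 w.1
    have : jacobson R p (u.1 + v.1) w.1 =
        jacobson R p v.1 w.1 + jacobson R p u.1 (v.1 + w.1) - jacobson R p u.1 v.1 := by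
      rw [← h]; abel
    rw [this]; abel)
  zero_add u := ext2_ext (zero_add u.1) (by
    show 0 + u.2 - jacobson R p 0 u.1 = u.2
    rw [jacobson_zero_left, zero_add, sub_zero])
  add_zero u := ext2_ext (add_zero u.1) (by
    show u.2 + 0 - jacobson R p u.1 0 = u.2
    rw [jacobson_zero_right, add_zero, sub_zero])
  add_comm u v := ext2_ext (add_comm u.1 v.1) (by
    show u.2 + v.2 - jacobson R p u.1 v.1 = v.2 + u.2 - jacobson R p v.1 u.1
    rw [add_comm u.2, jacobson_comm])
  nsmul := nsmulRec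

noncomputable instance : Module R (Ext2 R p L) where
  one_smul u := ext2_ext (one_smul R u.1) (by show (1 : R) ^ p • u.2 = u.2; rw [one_pow, one_smul])
  mul_smul c d u := ext2_ext (mul_smul c d u.1) (by
    show (c * d) ^ p • u.2 = c ^ p • d ^ p • u.2
    rw [mul_pow, mul_smul])
  smul_zero c := ext2_ext (smul_zero c) (smul_zero (c ^ p))
  smul_add c u v := ext2_ext (smul_add c u.1 v.1) (by
    show c ^ p • (u.2 + v.2 - jacobson R p u.1 v.1) =
      c ^ p • u.2 + c ^ p • v.2 - jacobson R p (c • u.1) (c • v.1)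
    rw [jacobson_smul, smul_sub, smul_add])
  add_smul c d u := ext2_ext (add_smul c d u.1) (by
    show (c + d) ^ p • u.2 = c ^ p • u.2 + d ^ p • u.2 - jacobson R p (c • u.1) (d • u.1)
    rw [jacobson_eq_zero_of_lie _ _ (by rw [smul_lie, lie_smul, lie_self, smul_zero, smul_zero]),
      sub_zero, add_pow_char, add_smul])
  zero_smul u := ext2_ext (zero_smul R u.1) (by
    show (0 : R) ^ p • u.2 = 0
    rw [zero_pow (Fact.out : p.Prime).ne_zero, zero_smul])

variable (R p L) in
noncomputable def ext2Fst : Ext2 R p L →ₗ[R] L where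
  toFun u := u.1
  map_add' _ _ := rfl
  map_smul' _ _ := rfl

theorem map_zero_pmap (φ : PMap R p L) : φ 0 = 0 := by
  have h := φ.map_smul 0 0
  rwa [zero_smul, zero_pow (Fact.out : p.Prime).ne_zero, zero_smul] at h

theorem ad_jacobson (x y : L) :
    LieAlgebra.ad R L (jacobson R p x y) =
      LieAlgebra.ad R L x ^ p + LieAlgebra.ad R L y ^ p - LieAlgebra.ad R L (x + y) ^ p :=
  map_jacobson_end _ x y

theorem ad_smul_pow (c : R) (x : L) :
    LieAlgebra.ad R L (c • x) ^ p = c ^ p • LieAlgebra.ad R L x ^ p := by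
  rw [map_smul, smul_pow]

/-- A linearly extended p-map. -/
theorem exists_pmap_basis {ι : Type w} (b : Module.Basis ι R L) (y : ι → L)
    (hy : ∀ i, LieAlgebra.ad R L (b i) ^ p = LieAlgebra.ad R L (y i)) :
    ∃ φ : PMap R p L, ∀ i, φ (b i) = y i := by
  let g : ι → Ext2 R p L := fun i => ((b i, y i) : L × L)
  let s : L →ₗ[R] Ext2 R p L := b.constr ℕ g
  have hsb : ∀ i, s (b i) = g i := fun i => b.constr_basis ℕ g i
  have hs1 : ∀ x, (s x).1 = x := fun x => by
    have : (ext2Fst R p L).comp s = LinearMap.id :=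
      b.ext fun i => by
        rw [LinearMap.comp_apply, hsb i]
        rfl
    exact LinearMap.congr_fun this x
  have hadd : ∀ x z, (s (x + z)).2 = (s x).2 + (s z).2 - jacobson R p x z := fun x z => by
    rw [map_add]
    show (s x).2 + (s z).2 - jacobson R p (s x).1 (s z).1 = _
    rw [hs1, hs1]
  have hsmul : ∀ (c : R) x, (s (c • x)).2 = c ^ p • (s x).2 := fun c x => by rw [map_smul]; rfl
  refine ⟨⟨fun x => (s x).2, hsmul, fun x => ?_, hadd⟩, fun i => ?_⟩
  · have hmem : x ∈ Submodule.span R (Set.range b) := b.mem_span x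
    induction hmem using Submodule.span_induction with
    | mem z hz =>
      obtain ⟨i, rfl⟩ := hz
      rw [hsb i]
      exact (hy i).symm
    | zero =>
      rw [map_zero s]
      show LieAlgebra.ad R L (0 : L) = _
      rw [map_zero, zero_pow (Fact.out : p.Prime).ne_zero]
    | add z w _ _ hz hw =>
      rw [hadd, map_sub, map_add, hz, hw, ad_jacobson, sub_sub_cancel]
    | smul c z _ hz => rw [hsmul, map_smul, hz, ad_smul_pow]
  · show (s (b i)).2 = y i
    rw [hsb i]

theorem existsUnique_pmap_basis {ι : Type w} (b : Module.Basis ι R L) (y : ι → L)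
    (hy : ∀ i, LieAlgebra.ad R L (b i) ^ p = LieAlgebra.ad R L (y i)) :
    ∃! φ : PMap R p L, ∀ i, φ (b i) = y i := by
  obtain ⟨φ, hφ⟩ := exists_pmap_basis b y hy
  refine ⟨φ, hφ, fun ψ hψ => ?_⟩
  have h : ∀ x, ψ x = φ x := fun x => by
    have hmem : x ∈ Submodule.span R (Set.range b) := b.mem_span x
    induction hmem using Submodule.span_induction with
    | mem z hz => obtain ⟨i, rfl⟩ := hz; rw [hψ, hφ]
    | zero => rw [map_zero_pmap, map_zero_pmap]
    | add z w _ _ hz hw => rw [ψ.map_add, φ.map_add, hz, hw]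
    | smul c z _ hz => rw [ψ.map_smul, φ.map_smul, hz]
  obtain ⟨f, _, _, _⟩ := ψ
  obtain ⟨g, _, _, _⟩ := φ
  congr
  exact funext h

theorem nonempty_pmap_iff {ι : Type w} (b : Module.Basis ι R L) :
    Nonempty (PMap R p L) ↔
      ∀ i, ∃ y, LieAlgebra.ad R L (b i) ^ p = LieAlgebra.ad R L y := by
  refine ⟨fun ⟨φ⟩ i => ⟨φ (b i), (φ.ad_map _).symm⟩, fun h => ?_⟩
  choose y hy using h
  exact ⟨(exists_pmap_basis b y hy).choose⟩

theorem pmap_ext {φ ψ : PMap R p L} (h : ∀ x, φ x = ψ x) : φ = ψ := by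
  obtain ⟨f, _, _, _⟩ := φ
  obtain ⟨g, _, _, _⟩ := ψ
  congr
  exact funext h

end Groth.Agent.PLie29
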