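import Groth.Prelude.Def_PLie
import Mathlib.Algebra.CharP.Lemmas
import Mathlib.Algebra.Polynomial.Derivative
import Mathlib.Algebra.Algebra.Bilinear
import Mathlib.FieldTheory.Finite.Basic
import Mathlib.Data.Fin.Tuple.Basic
import Mathlib.Data.Nat.Choose.Dvd

/-! Jacobson's formula for p-th powers in an associative algebra. -/

set_option autoImplicit false

universe u v

attribute [local instance 100] LieRing.ofAssociativeRing

namespace Groth.Agent.PLie29

open Polynomial

variable {R : Type u} [CommRing R] {p : ℕ} [Fact p.Prime] [CharP R p]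

variable (R) in
/-- The map of the prime field. -/
noncomputable def cst (e : ZMod p) : R := ZMod.castHom (dvd_refl p) R e

theorem cst_zero : cst R (0 : ZMod p) = 0 := map_zero _
theorem cst_one : cst R (1 : ZMod p) = 1 := map_one _
theorem cst_natCast (n : ℕ) : cst R (n : ZMod p) = (n : R) := map_natCast _ n
theorem cst_mul (a b : ZMod p) : cst R (a * b) = cst R a * cst R b := map_mul _ a b
theorem cst_pow (a : ZMod p) (n : ℕ) : cst R (a ^ n) = cst R a ^ n := map_pow _ a n
theorem cst_neg (a : ZMod p) : cst R (-a) = -cst R a := map_neg _ a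

theorem two_le_p : 2 ≤ p := (Fact.out : p.Prime).two_le

theorem choose_pred (i : ℕ) (hi : i < p) : ((p - 1).choose i : ZMod p) = (-1) ^ i := by
  have hp : 2 ≤ p := two_le_p
  induction i with
  | zero => simp
  | succ i ih =>
    have h := Nat.choose_succ_succ (p - 1) i
    rw [show (p - 1).succ = p by omega] at h
    have h0 : ((p.choose (i + 1) : ℕ) : ZMod p) = 0 :=
      (ZMod.natCast_eq_zero_iff _ _).mpr
        (Nat.Prime.dvd_choose_self (Fact.out : p.Prime) (Nat.succ_ne_zero i) hi)
    rw [show p.choose (i + 1) = (p - 1).choose i + (p - 1).choose (i + 1) from h, Nat.cast_add,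
      ih (by omega)] at h0
    rw [pow_succ, mul_neg_one]
    exact eq_neg_of_add_eq_zero_right h0

variable {A : Type v} [Ring A] [Algebra R A]

theorem cst_smul_natCast (n : ℕ) (a : A) : cst R (n : ZMod p) • a = (n : A) * a := by
  rw [cst_natCast, Algebra.smul_def, map_natCast]

variable (R) in
include R in
theorem sub_pow_pred {x y : A} (h : Commute x y) :
    (x - y) ^ (p - 1) = ∑ i ∈ Finset.range p, x ^ i * y ^ (p - 1 - i) := by
  have hp : 2 ≤ p := two_le_p
  let f : ZMod p →+* A := (algebraMap R A).comp (ZMod.castHom (dvd_refl p) R)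
  rw [sub_eq_add_neg, h.neg_right.add_pow, show p - 1 + 1 = p by omega]
  refine Finset.sum_congr rfl fun i hi => ?_
  rw [Finset.mem_range] at hi
  have hc : (((p - 1).choose i : ℕ) : A) = (-1) ^ i := by
    rw [← map_natCast f, choose_pred i hi, map_pow, map_neg, map_one]
  have hone : (-1 : A) ^ (p - 1) = 1 := by
    have h2 := congrArg f (ZMod.pow_card_sub_one_eq_one (p := p) (a := -1) (by simp))
    simpa only [map_pow, map_neg, map_one] using h2
  rw [hc, neg_pow y, ← mul_assoc, mul_assoc (x ^ i * (-1) ^ (p - 1 - i)),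
    (((Commute.neg_one_left (y ^ (p - 1 - i))).pow_left i).eq).symm, ← mul_assoc,
    mul_assoc (x ^ i) ((-1 : A) ^ (p - 1 - i)), ← pow_add, show p - 1 - i + i = p - 1 by omega,
    hone, mul_one]

theorem bracketWord_ofFn_cons {L : Type v} [LieRing L] (x : Bool → L) (x₁ : L) {n : ℕ} (b : Bool)
    (t : Fin n → Bool) :
    PLie.bracketWord x x₁ (List.ofFn (Fin.cons b t : Fin (n + 1) → Bool)) =
      ⁅x b, PLie.bracketWord x x₁ (List.ofFn t)⁆ := by
  rw [List.ofFn_cons, PLie.bracketWord_cons]

/-- number of true values -/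
def numTrue {n : ℕ} (t : Fin n → Bool) : ℕ := ∑ i, if t i = true then 1 else 0

theorem numTrue_cons {n : ℕ} (b : Bool) (t : Fin n → Bool) :
    numTrue (Fin.cons b t : Fin (n + 1) → Bool) = (if b = true then 1 else 0) + numTrue t := by
  simp only [numTrue, Fin.sum_univ_succ, Fin.cons_zero, Fin.cons_succ]

theorem numTrue_add_card {n : ℕ} (t : Fin n → Bool) :
    numTrue t + Fintype.card {i // t i = false} = n := by
  rw [Fintype.card_subtype, Finset.card_filter, numTrue, ← Finset.sum_add_distrib]
  conv_rhs => rw [← Fintype.card_fin n, Fintype.card_eq_sum_ones]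
  refine Finset.sum_congr rfl fun i _ => ?_
  cases t i <;> rfl

theorem ad_iterate_expand (a b : A) (n : ℕ) :
    (((LinearMap.mulLeft R (C a + X * C b) - LinearMap.mulRight R (C a + X * C b)) :
      Module.End R A[X]) ^ n) (C b) =
      ∑ t : Fin n → Bool,
        C (PLie.bracketWord (PLie.pair a b) b (List.ofFn t)) * X ^ numTrue t := by
  induction n with
  | zero => simp [numTrue]
  | succ n ih =>
    rw [pow_succ', Module.End.mul_apply, ih, map_sum,
      ← (Fin.consEquiv (fun _ : Fin (n + 1) => Bool)).sum_comp, Fintype.sum_prod_type,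
      Fintype.sum_bool, add_comm, ← Finset.sum_add_distrib]
    refine Finset.sum_congr rfl fun t _ => ?_
    simp only [Fin.consEquiv, Equiv.coe_fn_mk, bracketWord_ofFn_cons, numTrue_cons, PLie.pair,
      Bool.false_eq_true, ↓reduceIte, zero_add, LinearMap.sub_apply, LinearMap.mulLeft_apply,
      LinearMap.mulRight_apply, LieRing.of_associative_ring_bracket, map_sub, map_mul]
    rw [show 1 + numTrue t = numTrue t + 1 from add_comm _ _]
    generalize C (PLie.bracketWord (PLie.pair a b) b (List.ofFn t)) = W
    generalize numTrue t = k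
    have hk : ∀ q r : A[X], X ^ k * (q * r) = q * (X ^ k * r) := fun q r => by
      rw [← mul_assoc, Polynomial.X_pow_mul, mul_assoc]
    have h1 : X * C b = C b * X := Polynomial.X_mul
    have hX : X * (W * X ^ k) = W * (X ^ k * X) := by rw [Polynomial.X_mul, mul_assoc]
    have h3 : X ^ k * C a = C a * X ^ k := Polynomial.X_pow_mul
    simp only [h1, add_mul, mul_add, sub_mul, mul_assoc, pow_succ, hX, h3, hk]
    abel

theorem derivative_pow_sum (P : A[X]) (n : ℕ) :
    derivative (P ^ n) = ∑ i ∈ Finset.range n, P ^ i * derivative P * P ^ (n - 1 - i) := by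
  induction n with
  | zero => simp
  | succ n ih =>
    rw [pow_succ, derivative_mul, ih, Finset.sum_range_succ, Finset.sum_mul, Nat.add_sub_cancel,
      Nat.sub_self, pow_zero, mul_one]
    congr 1
    refine Finset.sum_congr rfl fun i hi => ?_
    rw [Finset.mem_range] at hi
    rw [mul_assoc, ← pow_succ, show n - 1 - i + 1 = n - i by omega]

/-- Jacobson's formula. -/
theorem add_pow_jacobson (a b : A) :
    (a + b) ^ p = a ^ p + b ^ p - PLie.jacobson R p a b := by
  have hp : 2 ≤ p := two_le_p
  set P : A[X] := C a + X * C b with hP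
  have hdP : derivative P = C b := by simp [hP, derivative_mul]
  have key : derivative (P ^ p) = ∑ t : Fin (p - 1) → Bool,
      C (PLie.bracketWord (PLie.pair a b) b (List.ofFn t)) * X ^ numTrue t := by
    rw [← ad_iterate_expand (R := R), sub_pow_pred R (LinearMap.commute_mulLeft_right P P),
      LinearMap.sum_apply, derivative_pow_sum, hdP]
    refine Finset.sum_congr rfl fun i _ => ?_
    rw [Module.End.mul_apply, LinearMap.pow_mulLeft, LinearMap.pow_mulRight, LinearMap.mulLeft_apply,
      LinearMap.mulRight_apply, mul_assoc]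
  have hc : ∀ j < p, cst R ((j + 1 : ℕ) : ZMod p) • (P ^ p).coeff (j + 1) =
      ∑ t ∈ Finset.univ.filter (fun t : Fin (p - 1) → Bool => numTrue t = j),
        PLie.bracketWord (PLie.pair a b) b (List.ofFn t) := by
    intro j _
    have h := congrArg (fun q : A[X] => q.coeff j) key
    simp only [coeff_derivative, finsetSum_coeff, coeff_C_mul_X_pow] at h
    rw [cst_smul_natCast, (Nat.cast_commute (j + 1) ((P ^ p).coeff (j + 1))).eq, Nat.cast_succ, h,
      Finset.sum_filter]
    exact Finset.sum_congr rfl fun t _ => if_congr eq_comm rfl rfl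
  have hmid : ∑ j ∈ Finset.range (p - 1), (P ^ p).coeff (j + 1) = - PLie.jacobson R p a b := by
    have h1 : ∀ j ∈ Finset.range (p - 1), (P ^ p).coeff (j + 1) =
        cst R ((j + 1 : ℕ) : ZMod p)⁻¹ •
          ∑ t ∈ Finset.univ.filter (fun t : Fin (p - 1) → Bool => numTrue t = j),
            PLie.bracketWord (PLie.pair a b) b (List.ofFn t) := by
      intro j hj
      rw [Finset.mem_range] at hj
      rw [← hc j (by omega), smul_smul, ← cst_mul, inv_mul_cancel₀, cst_one, one_smul]
      rw [Ne, ZMod.natCast_eq_zero_iff]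
      exact fun hd => absurd (Nat.le_of_dvd (by omega) hd) (by omega)
    have h2 : ∑ j ∈ Finset.range p, cst R ((j + 1 : ℕ) : ZMod p)⁻¹ •
          ∑ t ∈ Finset.univ.filter (fun t : Fin (p - 1) → Bool => numTrue t = j),
            PLie.bracketWord (PLie.pair a b) b (List.ofFn t) = - PLie.jacobson R p a b := by
      have hfib := Finset.sum_fiberwise_of_maps_to (s := (Finset.univ : Finset (Fin (p - 1) → Bool)))
        (t := Finset.range p) (g := numTrue)
        (fun t _ => Finset.mem_range.mpr (by have := numTrue_add_card t; omega))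
        (fun t => cst R ((numTrue t + 1 : ℕ) : ZMod p)⁻¹ •
          PLie.bracketWord (PLie.pair a b) b (List.ofFn t))
      rw [PLie.jacobson, ← Finset.sum_neg_distrib]
      refine Eq.trans ?_ (hfib.trans ?_)
      · refine Finset.sum_congr rfl fun j _ => ?_
        rw [Finset.smul_sum]
        exact Finset.sum_congr rfl fun t ht => by rw [(Finset.mem_filter.mp ht).2]
      · refine Finset.sum_congr rfl fun t _ => ?_
        have := numTrue_add_card t
        have hrev : ((numTrue t + 1 : ℕ) : ZMod p) = -(Fintype.card {i // t i = false} : ZMod p) := by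
          rw [eq_neg_iff_add_eq_zero, ← Nat.cast_add,
            show numTrue t + 1 + Fintype.card {i // t i = false} = p by omega, ZMod.natCast_self]
        rw [hrev, inv_neg, cst_neg, neg_smul]
        rfl
    have hr : Finset.range p = insert (p - 1) (Finset.range (p - 1)) := by
      ext; simp only [Finset.mem_range, Finset.mem_insert]; omega
    rw [← h2, Finset.sum_congr rfl h1, hr, Finset.sum_insert Finset.notMem_range_self,
      show p - 1 + 1 = p by omega, ZMod.natCast_self, inv_zero, cst_zero, zero_smul, zero_add]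
  let ev : A[X] →+* A := eval₂RingHom' (RingHom.id A) 1 fun x => Commute.one_right x
  have hevP : ev P = a + b := by simp [ev, hP, eval₂RingHom']
  have hdeg : P.natDegree ≤ 1 := by
    rw [hP, natDegree_le_iff_coeff_eq_zero]
    intro m hm
    obtain ⟨m, rfl⟩ : ∃ k, m = k + 1 := ⟨m - 1, by omega⟩
    rw [coeff_add, coeff_C, coeff_X_mul, coeff_C, if_neg (by omega), if_neg (by omega), add_zero]
  have hev : ev (P ^ p) = ∑ i ∈ Finset.range (p + 1), (P ^ p).coeff i := by
    change (P ^ p).eval 1 = _
    rw [eval_eq_sum_range' (n := p + 1)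
      (Nat.lt_succ_of_le ((natDegree_pow_le).trans (by simpa using Nat.mul_le_mul_left p hdeg)))]
    simp
  rw [map_pow, hevP] at hev
  have hr : Finset.range p = insert 0 ((Finset.range (p - 1)).image (· + 1)) := by
    ext x
    simp only [Finset.mem_range, Finset.mem_insert, Finset.mem_image]
    exact ⟨fun hx => by rcases x with _ | x; exacts [Or.inl rfl, Or.inr ⟨x, by omega, rfl⟩],
      fun hx => by rcases hx with rfl | ⟨y, hy, rfl⟩ <;> omega⟩
  rw [hev, Finset.sum_range_succ, hr, Finset.sum_insert (by simp),
    Finset.sum_image fun x _ y _ h => Nat.succ_injective h, hmid]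
  have h0 : (P ^ p).coeff 0 = a ^ p := by
    rw [← constantCoeff_apply, map_pow, constantCoeff_apply, hP]; simp
  have hp' : (P ^ p).coeff p = b ^ p := by
    have := coeff_pow_of_natDegree_le (m := p) hdeg
    rw [mul_one] at this
    rw [this, hP]
    simp
  rw [h0, hp']
  abel

end Groth.Agent.PLie29
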