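import Groth.Agent.PLie29.Formula
import Mathlib.Algebra.Lie.Free

/-! Identities satisfied by Jacobson's sum in an arbitrary Lie algebra. -/

set_option autoImplicit false

universe u v w

attribute [local instance 100] LieRing.ofAssociativeRing

namespace Groth.Agent.PLie29

open PLie

variable {R : Type u} [CommRing R]

section Words

variable {L : Type v} [LieRing L] {ι : Type w}

theorem bracketWord_last_zero (x : ι → L) : ∀ w : List ι, bracketWord x 0 w = 0
  | [] => rfl
  | i :: w => by rw [bracketWord_cons, bracketWord_last_zero x w, lie_zero]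

theorem bracketWord_eq_zero_of_mem (x : ι → L) (x₁ : L) {i : ι} (hx : x i = 0) :
    ∀ w : List ι, i ∈ w → bracketWord x x₁ w = 0
  | [], h => absurd h List.not_mem_nil
  | j :: w, h => by
    rw [bracketWord_cons]
    rcases List.mem_cons.mp h with rfl | h
    · rw [hx, zero_lie]
    · rw [bracketWord_eq_zero_of_mem x x₁ hx w h, lie_zero]

theorem bracketWord_eq_zero_of_comm (x : ι → L) (x₁ : L) (hx : ∀ i, ⁅x i, x₁⁆ = 0) :
    ∀ w : List ι, w ≠ [] → bracketWord x x₁ w = 0
  | [], h => absurd rfl h
  | [i], _ => hx i
  | i :: j :: w, _ => by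
    rw [bracketWord_cons, bracketWord_eq_zero_of_comm x x₁ hx (j :: w) (List.cons_ne_nil _ _),
      lie_zero]

variable [LieAlgebra R L]

theorem map_bracketWord {L' : Type*} [LieRing L'] [LieAlgebra R L'] (f : L →ₗ⁅R⁆ L') (x : ι → L)
    (x₁ : L) : ∀ w : List ι, f (bracketWord x x₁ w) = bracketWord (fun i => f (x i)) (f x₁) w
  | [] => rfl
  | i :: w => by rw [bracketWord_cons, LieHom.map_lie, map_bracketWord f x x₁ w, bracketWord_cons]

theorem bracketWord_smul (c : R) (x : ι → L) (x₁ : L) : ∀ w : List ι,
    bracketWord (fun i => c • x i) (c • x₁) w = c ^ (w.length + 1) • bracketWord x x₁ w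
  | [] => by simp
  | i :: w => by
    rw [bracketWord_cons, bracketWord_smul c x x₁ w, smul_lie, lie_smul, smul_smul,
      bracketWord_cons, List.length_cons, ← pow_succ']

end Words

variable {p : ℕ} [Fact p.Prime] [CharP R p]
variable {L : Type v} [LieRing L] [LieAlgebra R L]

theorem map_jacobson {L' : Type w} [LieRing L'] [LieAlgebra R L'] (f : L →ₗ⁅R⁆ L') (x y : L) :
    f (jacobson R p x y) = jacobson R p (f x) (f y) := by
  rw [jacobson, jacobson, map_sum]
  refine Finset.sum_congr rfl fun t _ => ?_
  rw [map_smul, map_bracketWord]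
  congr 2
  funext b
  cases b <;> rfl

theorem jacobson_zero_right (x : L) : jacobson R p x 0 = 0 :=
  Finset.sum_eq_zero fun t _ => by rw [bracketWord_last_zero, smul_zero]

theorem jacobson_zero_left (y : L) : jacobson R p 0 y = 0 := by
  refine Finset.sum_eq_zero fun t _ => ?_
  by_cases h : ∃ i, t i = false
  · obtain ⟨i, hi⟩ := h
    rw [bracketWord_eq_zero_of_mem (pair 0 y) y (i := false) rfl _
      ((List.mem_ofFn' t _).mpr ⟨i, hi⟩), smul_zero]
  · have : Fintype.card {i // t i = false} = 0 :=
      Fintype.card_eq_zero_iff.mpr ⟨fun i => h ⟨i.1, i.2⟩⟩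
    rw [this, Nat.cast_zero, inv_zero, map_zero, zero_smul]

theorem jacobson_eq_zero_of_lie (x y : L) (h : ⁅x, y⁆ = 0) : jacobson R p x y = 0 := by
  refine Finset.sum_eq_zero fun t _ => ?_
  rw [bracketWord_eq_zero_of_comm, smul_zero]
  · intro b; cases b
    · exact h
    · exact lie_self y
  · have hp : 2 ≤ p := two_le_p
    intro h0
    have := congrArg List.length h0
    simp at this
    omega

theorem jacobson_smul (c : R) (x y : L) :
    jacobson R p (c • x) (c • y) = c ^ p • jacobson R p x y := by
  have hp : 2 ≤ p := two_le_p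
  rw [jacobson, jacobson, Finset.smul_sum]
  refine Finset.sum_congr rfl fun t _ => ?_
  rw [smul_comm (c ^ p)]
  congr 1
  have : pair (c • x) (c • y) = fun b => c • pair x y b := by funext b; cases b <;> rfl
  rw [this, bracketWord_smul, List.length_ofFn, show p - 1 + 1 = p by omega]

theorem map_jacobson_end {M : Type w} [AddCommGroup M] [Module R M]
    (f : L →ₗ⁅R⁆ Module.End R M) (x y : L) :
    f (jacobson R p x y) = f x ^ p + f y ^ p - (f (x + y)) ^ p := by
  rw [map_jacobson, map_add, add_pow_jacobson (R := R) (p := p) (f x) (f y), sub_sub_cancel]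

section Free

variable {X : Type}

theorem free_mem_of_subalgebra (S : LieSubalgebra R (FreeLieAlgebra R X))
    (hS : ∀ x, FreeLieAlgebra.of R x ∈ S) (z : FreeLieAlgebra R X) : z ∈ S := by
  let g : FreeLieAlgebra R X →ₗ⁅R⁆ S := FreeLieAlgebra.lift R fun x => ⟨_, hS x⟩
  have h : S.incl.comp g = LieHom.id := FreeLieAlgebra.hom_ext fun x => by
    rw [LieHom.comp_apply, FreeLieAlgebra.lift_of_apply]; rfl
  have := LieHom.congr_fun h z
  rw [LieHom.comp_apply, LieHom.id_apply] at this
  rw [← this]
  exact (g z).2

variable [DecidableEq X]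

local notation "F" => FreeLieAlgebra R X

/-- Representation whose value at (0,1) is the Euler derivation of the variable j. -/
noncomputable def genEnd (j x : X) : Module.End R (F × R) :=
  (LinearMap.inl R F R).comp
    ((LieAlgebra.ad R F (FreeLieAlgebra.of R x)).comp (LinearMap.fst R F R) +
      (LinearMap.snd R F R).smulRight (if x = j then FreeLieAlgebra.of R x else 0))

variable (R) in
noncomputable def rep (j : X) : F →ₗ⁅R⁆ Module.End R (F × R) :=
  FreeLieAlgebra.lift R (genEnd j)

variable (R) in
noncomputable def euler (j : X) : F →ₗ[R] F :=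
  (LinearMap.fst R F R).comp ((LinearMap.applyₗ ((0, 1) : F × R)).comp (rep R j).toLinearMap)

theorem rep_apply (j : X) (z : F) (y : F) (c : R) :
    rep R j z (y, c) = (⁅z, y⁆ + c • euler R j z, 0) := by
  let S : LieSubalgebra R F :=
    { carrier := {z | ∀ (y : F) (c : R), rep R j z (y, c) = (⁅z, y⁆ + c • euler R j z, 0)}
      zero_mem' := fun y c => by simp [Prod.mk_eq_zero, eq_comm (a := (0 : F × R))]
      add_mem' := fun {a b} ha hb y c => by
        rw [map_add, LinearMap.add_apply, ha, hb, map_add, add_lie, smul_add, Prod.mk_add_mk,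
          add_zero]
        congr 1
        abel
      smul_mem' := fun r {a} ha y c => by
        rw [map_smul, LinearMap.smul_apply, ha, map_smul, smul_lie, smul_comm c, ← smul_add,
          Prod.smul_mk, smul_zero]
      lie_mem' := fun {a b} ha hb y c => by
        have he : euler R j ⁅a, b⁆ = ⁅a, euler R j b⁆ - ⁅b, euler R j a⁆ := by
          change (rep R j ⁅a, b⁆ (0, 1)).1 = _
          rw [LieHom.map_lie, LieRing.of_associative_ring_bracket, LinearMap.sub_apply,
            Module.End.mul_apply, Module.End.mul_apply]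
          simp only [ha _ _, hb _ _, lie_zero, zero_add, one_smul, zero_smul, add_zero, Prod.fst_sub]
        rw [LieHom.map_lie, LieRing.of_associative_ring_bracket, LinearMap.sub_apply,
          Module.End.mul_apply, Module.End.mul_apply, hb, ha, ha, hb, he, lie_lie]
        simp only [zero_smul, add_zero, lie_add, lie_smul, Prod.mk_sub_mk, sub_zero, smul_sub]
        congr 1
        abel }
  refine free_mem_of_subalgebra S (fun x y c => ?_) z y c
  have : euler R j (FreeLieAlgebra.of R x) = if x = j then FreeLieAlgebra.of R x else 0 := by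
    simp [euler, rep, genEnd]
  rw [this, rep, FreeLieAlgebra.lift_of_apply]
  simp [genEnd]

theorem euler_of (j x : X) :
    euler R j (FreeLieAlgebra.of R x) = if x = j then FreeLieAlgebra.of R x else 0 := by
  simp [euler, rep, genEnd]

theorem euler_lie (j : X) (a b : F) :
    euler R j ⁅a, b⁆ = ⁅a, euler R j b⁆ - ⁅b, euler R j a⁆ := by
  have : rep R j ⁅a, b⁆ (0, 1) = rep R j a (rep R j b (0, 1)) - rep R j b (rep R j a (0, 1)) := by
    rw [LieHom.map_lie]; rfl
  simp only [rep_apply, lie_zero, zero_add, one_smul, zero_smul, add_zero, Prod.mk_sub_mk] at this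
  exact congrArg Prod.fst this

theorem euler_comm (i j : X) (z : F) : euler R i (euler R j z) = euler R j (euler R i z) := by
  let S : LieSubalgebra R F :=
    { carrier := {z | euler R i (euler R j z) = euler R j (euler R i z)}
      zero_mem' := by simp
      add_mem' := fun {a b} (ha : _ = _) (hb : _ = _) => by
        show _ = _
        simp only [map_add, ha, hb]
      smul_mem' := fun r {a} (ha : _ = _) => by
        show _ = _
        simp only [map_smul, ha]
      lie_mem' := fun {a b} (ha : _ = _) (hb : _ = _) => by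
        show _ = _
        simp only [euler_lie, map_sub, ha, hb]
        rw [← lie_skew (euler R j b) (euler R i a), ← lie_skew (euler R j a) (euler R i b)]
        abel }
  refine free_mem_of_subalgebra S (fun x => ?_) z
  show _ = _
  rw [euler_of, euler_of]
  split_ifs with h1 h2 h2 <;> simp [euler_of, h1, h2] <;> simp_all

theorem euler_eq_zero_of_rep (j : X) {W : F} (h : rep R j W = 0) : euler R j W = 0 := by
  change (rep R j W (0, 1)).1 = 0
  rw [h]; rfl

theorem rep_jacobson (j : X) (x y : F) :
    rep R j (jacobson R p x y) = rep R j x ^ p + rep R j y ^ p - rep R j (x + y) ^ p :=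
  map_jacobson_end _ x y

/-- Weight of a vector for the Euler derivation. -/
def IsWt (j : X) (e : ZMod p) (z : F) : Prop := euler R j z = cst R e • z

omit [DecidableEq X] in
theorem cst_add (a b : ZMod p) : cst R (a + b) = cst R a + cst R b := map_add _ a b

theorem IsWt.lie {j : X} {e e' : ZMod p} {a b : F} (ha : IsWt j e a) (hb : IsWt j e' b) :
    IsWt j (e + e') ⁅a, b⁆ := by
  unfold IsWt at *
  rw [euler_lie, ha, hb, lie_smul, lie_smul, cst_add, add_smul, ← lie_skew b a, smul_neg,
    sub_neg_eq_add, add_comm]

theorem IsWt.add {j : X} {e : ZMod p} {a b : F} (ha : IsWt j e a) (hb : IsWt j e b) :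
    IsWt j e (a + b) := by
  unfold IsWt at *
  rw [map_add, ha, hb, smul_add]

theorem IsWt.bracketWord {j : X} {x : Bool → F} {x₁ : F} {e : Bool → ZMod p} {e₁ : ZMod p}
    (hx : ∀ b, IsWt j (e b) (x b)) (h₁ : IsWt j e₁ x₁) :
    ∀ w : List Bool, IsWt j ((w.map e).sum + e₁) (bracketWord x x₁ w)
  | [] => by simpa using h₁
  | b :: w => by
    rw [List.map_cons, List.sum_cons, bracketWord_cons, add_assoc]
    exact (hx b).lie (IsWt.bracketWord hx h₁ w)

variable (R) (p) in
/-- Projection on the weight-zero part. -/
noncomputable def proj (j : X) : F →ₗ[R] F := LinearMap.id - (euler R j) ^ (p - 1)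

theorem euler_pow_wt {j : X} {e : ZMod p} {z : F} (h : IsWt j e z) (n : ℕ) :
    (euler R j ^ n) z = cst R e ^ n • z := by
  induction n with
  | zero => simp
  | succ n ih => rw [pow_succ, Module.End.mul_apply, h, map_smul, ih, smul_smul, pow_succ']

theorem proj_jacobson {j : X} {x y : F} {e e' : ZMod p} (hx : IsWt j e x) (hy : IsWt j e' y)
    (hne : e ≠ e') : proj R p j (jacobson R p x y) = 0 := by
  have hp : 2 ≤ p := two_le_p
  rw [jacobson, map_sum]
  refine Finset.sum_eq_zero fun t _ => ?_
  rw [map_smul]
  set r := Fintype.card {i // t i = false} with hr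
  by_cases hr0 : ((r : ℕ) : ZMod p) = 0
  · rw [hr0, inv_zero, map_zero, zero_smul]
  have hwt : IsWt j ((r : ZMod p) * (e - e')) (PLie.bracketWord (pair x y) y (List.ofFn t)) := by
    have h := IsWt.bracketWord (x := pair x y) (e := fun b => if b then e' else e)
      (fun b => by cases b <;> assumption) hy (List.ofFn t)
    convert h using 2
    rw [List.map_ofFn, List.sum_ofFn, hr, Fintype.card_subtype, ← Finset.sum_boole, Finset.sum_mul]
    have : e' = ∑ _i : Fin (p - 1), (-e') := by
      rw [Finset.sum_const, Finset.card_univ, Fintype.card_fin, nsmul_eq_mul,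
        Nat.cast_sub (by omega : 1 ≤ p), ZMod.natCast_self, Nat.cast_one]
      ring
    conv_rhs => arg 2; rw [this]
    rw [← Finset.sum_add_distrib]
    refine Finset.sum_congr rfl fun i _ => ?_
    simp only [Function.comp_apply]
    cases t i <;> simp [sub_eq_add_neg]
  rw [proj, LinearMap.sub_apply, LinearMap.id_apply, euler_pow_wt hwt, ← cst_pow,
    ZMod.pow_card_sub_one_eq_one (mul_ne_zero hr0 (sub_ne_zero.mpr hne)), cst_one, one_smul,
    sub_self, smul_zero]

theorem proj_comm (i j : X) (z : F) : proj R p i (proj R p j z) = proj R p j (proj R p i z) := by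
  have hc : Commute (euler R i : Module.End R F) (euler R j) := LinearMap.ext fun z => euler_comm i j z
  have := ((Commute.one_left (1 : Module.End R F)).sub_right (Commute.one_left (euler R j ^ (p - 1)))).sub_left
    (((Commute.one_right (euler R i ^ (p - 1))).sub_right (hc.pow_pow (p - 1) (p - 1))))
  exact LinearMap.congr_fun this.eq z

theorem proj_of_euler_eq_zero {j : X} {W : F} (h : euler R j W = 0) : proj R p j W = W := by
  have hp : 2 ≤ p := two_le_p
  rw [proj, LinearMap.sub_apply, LinearMap.id_apply, show p - 1 = (p - 2) + 1 by omega, pow_succ,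
    Module.End.mul_apply, h, map_zero, sub_zero]

end Free

theorem cocycle_free : (jacobson R p (FreeLieAlgebra.of R (0 : Fin 3)) (FreeLieAlgebra.of R 1) +
      jacobson R p (FreeLieAlgebra.of R 0 + FreeLieAlgebra.of R 1) (FreeLieAlgebra.of R 2)) =
    jacobson R p (FreeLieAlgebra.of R 1) (FreeLieAlgebra.of R 2) +
      jacobson R p (FreeLieAlgebra.of R 0) (FreeLieAlgebra.of R 1 + FreeLieAlgebra.of R 2) := by
  set a := FreeLieAlgebra.of R (0 : Fin 3) with ha
  set b := FreeLieAlgebra.of R (1 : Fin 3) with hb
  set c := FreeLieAlgebra.of R (2 : Fin 3) with hc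
  rw [← sub_eq_zero]
  set W := jacobson R p a b + jacobson R p (a + b) c -
    (jacobson R p b c + jacobson R p a (b + c)) with hW
  have hrep : ∀ j : Fin 3, rep R j W = 0 := fun j => by
    rw [hW, map_sub, map_add, map_add, rep_jacobson, rep_jacobson, rep_jacobson, rep_jacobson,
      ← add_assoc a b c]
    abel
  have hfix : ∀ j : Fin 3, proj R p j W = W := fun j =>
    proj_of_euler_eq_zero (euler_eq_zero_of_rep j (hrep j))
  have w : ∀ i j : Fin 3, IsWt (p := p) j (if i = j then 1 else 0) (FreeLieAlgebra.of R i) := by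
    intro i j
    rw [IsWt, euler_of]
    split_ifs <;> simp [cst_zero, cst_one]
  have wa0 : IsWt (p := p) 0 1 a := by simpa using w 0 0
  have wb0 : IsWt (p := p) 0 0 b := by simpa using w 1 0
  have wc0 : IsWt (p := p) 0 0 c := by simpa using w 2 0
  have wa2 : IsWt (p := p) 2 0 a := by simpa using w 0 2
  have wb2 : IsWt (p := p) 2 0 b := by simpa using w 1 2
  have wc2 : IsWt (p := p) 2 1 c := by simpa using w 2 2
  rw [← hfix 0, ← hfix 2, hW]
  simp only [map_sub, map_add, proj_jacobson (wa2.add wb2) wc2 zero_ne_one,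
    proj_jacobson wb2 wc2 zero_ne_one, map_zero, add_zero, zero_add]
  rw [proj_comm, proj_jacobson wa0 wb0 one_ne_zero, proj_comm,
    proj_jacobson wa0 (wb0.add wc0) one_ne_zero, map_zero, sub_zero]

theorem symm_free : jacobson R p (FreeLieAlgebra.of R (0 : Fin 2)) (FreeLieAlgebra.of R 1) =
    jacobson R p (FreeLieAlgebra.of R 1) (FreeLieAlgebra.of R 0) := by
  set a := FreeLieAlgebra.of R (0 : Fin 2) with ha
  set b := FreeLieAlgebra.of R (1 : Fin 2) with hb
  rw [← sub_eq_zero]
  set W := jacobson R p a b - jacobson R p b a with hW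
  have hrep : rep R 0 W = 0 := by
    rw [hW, map_sub, rep_jacobson, rep_jacobson, add_comm b a]
    abel
  have wa : IsWt (p := p) 0 1 a := by rw [IsWt, ha, euler_of, if_pos rfl, cst_one, one_smul]
  have wb : IsWt (p := p) 0 0 b := by
    rw [IsWt, hb, euler_of, if_neg (by decide), cst_zero, zero_smul]
  rw [← proj_of_euler_eq_zero (p := p) (euler_eq_zero_of_rep 0 hrep), hW, map_sub,
    proj_jacobson wa wb one_ne_zero, proj_jacobson wb wa zero_ne_one, sub_self]

theorem jacobson_cocycle (x y z : L) :
    jacobson R p x y + jacobson R p (x + y) z = jacobson R p y z + jacobson R p x (y + z) := by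
  let f : FreeLieAlgebra R (Fin 3) →ₗ⁅R⁆ L := FreeLieAlgebra.lift R ![x, y, z]
  have h := congrArg f (cocycle_free (R := R) (p := p))
  simpa only [map_add, map_jacobson, f, FreeLieAlgebra.lift_of_apply, Matrix.cons_val_zero,
    Matrix.cons_val_one, Matrix.cons_val_two, Matrix.head_cons, Matrix.tail_cons,
    Matrix.cons_val] using h

theorem jacobson_comm (x y : L) : jacobson R p x y = jacobson R p y x := by
  let f : FreeLieAlgebra R (Fin 2) →ₗ⁅R⁆ L := FreeLieAlgebra.lift R ![x, y]
  have h := congrArg f (symm_free (R := R) (p := p))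
  simpa only [map_jacobson, f, FreeLieAlgebra.lift_of_apply, Matrix.cons_val_zero,
    Matrix.cons_val_one, Matrix.head_cons, Matrix.cons_val] using h

end Groth.Agent.PLie29
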