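import Groth.Agent.Hopf35.PBW
import Groth.Agent.PLie29.Formula
import Groth.Agent.PLie29.Identities

/-! A finite-dimensional restricted Lie algebra has a faithful finite-dimensional representation: the
restricted enveloping algebra, cut out of `U(L)` by the central elements `b_i^p - b_i^[p]`. -/

set_option autoImplicit false

universe u v

open Groth.Agent.Hopf35 UniversalEnvelopingAlgebra

namespace Groth.Agent.PLie29.Faithful

attribute [local instance] LieRing.ofAssociativeRing

variable {k : Type u} [Field k] {p : ℕ} [Fact p.Prime] [CharP k p]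
  {L : Type v} [LieRing L] [LieAlgebra k L] {n : ℕ} (b : Module.Basis (Fin n) k L) (φ : PLie.PMap k p L)

local notation "U" => UniversalEnvelopingAlgebra k L

/-- Span of monomials of length `< m`. -/
noncomputable def S (m : ℕ) : Submodule k U :=
  Submodule.span k (PBW.mon b '' {w : List (Fin n) | w.length < m})

theorem mon_mem_S {w : List (Fin n)} {m : ℕ} (h : w.length < m) : PBW.mon b w ∈ S b m :=
  Submodule.subset_span ⟨w, h, rfl⟩

theorem S_mono {a c : ℕ} (h : a ≤ c) : S b a ≤ S b c :=
  Submodule.span_mono (Set.image_mono fun w (hw : w.length < a) => hw.trans_le h)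

theorem mul_mem_S {x y : U} {a c : ℕ} (hx : x ∈ S b a) (hy : y ∈ S b c) : x * y ∈ S b (a + c - 1) := by
  induction hx using Submodule.span_induction with
  | mem x hx =>
    obtain ⟨u, hu, rfl⟩ := hx
    induction hy using Submodule.span_induction with
    | mem y hy =>
      obtain ⟨w, hw, rfl⟩ := hy
      rw [← PBW.mon_append]
      refine mon_mem_S b ?_
      simp only [Set.mem_ofPred_eq] at hu hw
      rw [List.length_append]
      omega
    | zero => rw [mul_zero]; exact zero_mem _
    | add a a' _ _ ha ha' => rw [mul_add]; exact add_mem ha ha'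
    | smul r a _ ha => rw [mul_smul_comm]; exact Submodule.smul_mem _ r ha
  | zero => rw [zero_mul]; exact zero_mem _
  | add a a' _ _ ha ha' => rw [add_mul]; exact add_mem ha ha'
  | smul r a _ ha => rw [smul_mul_assoc]; exact Submodule.smul_mem _ r ha

theorem iota_mem_S (x : L) : ι k x ∈ S b 2 := by
  rw [← b.linearCombination_repr x, Finsupp.linearCombination_apply, Finsupp.sum, map_sum]
  refine Submodule.sum_mem _ fun j _ => ?_
  rw [map_smul]
  refine Submodule.smul_mem _ _ ?_
  have e : PBW.mon b [j] = ι k (b j) := by simp [PBW.mon]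
  exact e ▸ mon_mem_S b (by simp)

theorem perm_mem_S {w w' : List (Fin n)} (h : w.Perm w') : PBW.mon b w - PBW.mon b w' ∈ S b w.length := by
  induction h with
  | nil => rw [sub_self]; exact zero_mem _
  | @cons x l l' _ ih =>
    rw [PBW.mon_cons, PBW.mon_cons, ← mul_sub]
    exact S_mono b (by simp; omega) (mul_mem_S b (iota_mem_S b (b x)) ih)
  | swap x y l =>
    rw [PBW.mon_cons, PBW.mon_cons, PBW.mon_cons, PBW.mon_cons, ← mul_assoc, ← mul_assoc, ← sub_mul,
      ← LieRing.of_associative_ring_bracket, ← LieHom.map_lie]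
    exact S_mono b (by simp; omega) (mul_mem_S b (iota_mem_S b _) (mon_mem_S b (Nat.lt_succ_self l.length)))
  | @trans l₁ l₂ l₃ h₁ _ ih₁ ih₂ =>
    rw [← sub_add_sub_cancel _ (PBW.mon b l₂)]
    exact add_mem ih₁ (h₁.length_eq ▸ ih₂)

/-- The sorted monomial basis. -/
noncomputable def B : Module.Basis {l : List (Fin n) // l.SortedLE} k U := (PBW.main b).choose

theorem B_apply (s : {l : List (Fin n) // l.SortedLE}) : B b s = PBW.mon b s.1 := (PBW.main b).choose_spec s

theorem sortedSpan_mono {a c : ℕ} (h : a ≤ c) :
    Submodule.span k (B b '' {s | s.1.length ≤ a}) ≤ Submodule.span k (B b '' {s | s.1.length ≤ c}) :=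
  Submodule.span_mono (Set.image_mono fun _ (ht : _ ≤ a) => le_trans ht h)

theorem mon_mem_sorted (w : List (Fin n)) :
    PBW.mon b w ∈ Submodule.span k (B b '' {s | s.1.length ≤ w.length}) := by
  suffices ∀ m, ∀ w : List (Fin n), w.length = m →
      PBW.mon b w ∈ Submodule.span k (B b '' {s | s.1.length ≤ w.length}) from this _ w rfl
  intro m
  induction m using Nat.strong_induction_on with
  | _ m ih =>
    intro w hm
    let s : {l : List (Fin n) // l.SortedLE} :=
      ⟨w.insertionSort (· ≤ ·), (List.pairwise_insertionSort (· ≤ ·) w).sortedLE⟩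
    have hp : w.Perm s.1 := (List.perm_insertionSort (· ≤ ·) w).symm
    have h := perm_mem_S b hp
    rw [← B_apply] at h
    have hS : S b w.length ≤ Submodule.span k (B b '' {s | s.1.length ≤ w.length}) := by
      refine Submodule.span_le.2 ?_
      rintro _ ⟨v, hv, rfl⟩
      simp only [Set.mem_ofPred_eq] at hv
      exact sortedSpan_mono b hv.le (ih _ (hm ▸ hv) v rfl)
    rw [← sub_add_cancel (PBW.mon b w) (B b s)]
    exact add_mem (hS h) (Submodule.subset_span ⟨s, hp.length_eq.ge, rfl⟩)

/-- The central elements. -/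
noncomputable def z (i : Fin n) : U := ι k (b i) ^ p - ι k (φ (b i))

theorem z_comm (i : Fin n) (u : U) : Commute (z b φ i) u := by
  suffices u ∈ Subalgebra.centralizer k ({z b φ i} : Set U) from
    ((Subalgebra.mem_centralizer_iff k).1 this (z b φ i) rfl)
  obtain ⟨t, rfl⟩ : ∃ t, UniversalEnvelopingAlgebra.mkAlgHom k L t = u :=
    RingCon.mk'_surjective (c := UniversalEnvelopingAlgebra.ringCon k L) u
  induction t using TensorAlgebra.induction with
  | algebraMap r => rw [AlgHom.commutes]; exact Subalgebra.algebraMap_mem _ r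
  | mul a c ha hc => rw [map_mul]; exact mul_mem ha hc
  | add a c ha hc => rw [map_add]; exact add_mem ha hc
  | ι x =>
    rw [Subalgebra.mem_centralizer_iff]
    rintro _ rfl
    show z b φ i * ι k x = ι k x * z b φ i
    have hAB : Commute (LinearMap.mulLeft k (ι k (b i))) (LinearMap.mulRight k (ι k (b i))) :=
      LinearMap.commute_mulLeft_right _ _
    have : Nontrivial U := ⟨⟨B b ⟨[], List.Pairwise.nil.sortedLE⟩, 0, (B b).ne_zero _⟩⟩
    have : CharP (Module.End k U) p := charP_of_injective_algebraMap (RingHom.injective (algebraMap k (Module.End k U))) p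
    have hpow : ∀ (m : ℕ) (y : L), ι k ((LieAlgebra.ad k L (b i) ^ m) y) =
        ((LinearMap.mulLeft k (ι k (b i)) - LinearMap.mulRight k (ι k (b i))) ^ m) (ι k y) := by
      intro m
      induction m with
      | zero => simp
      | succ m ih =>
        intro y
        rw [pow_succ, Module.End.mul_apply, ih, pow_succ, Module.End.mul_apply]
        congr 1
        rw [LieAlgebra.ad_apply, LieHom.map_lie, LieRing.of_associative_ring_bracket]
        rfl
    have h := hpow p x
    rw [← φ.ad_map, LieAlgebra.ad_apply, LieHom.map_lie, LieRing.of_associative_ring_bracket,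
      sub_pow_char_of_commute p hAB, LinearMap.sub_apply, LinearMap.pow_mulLeft, LinearMap.pow_mulRight,
      LinearMap.mulLeft_apply, LinearMap.mulRight_apply] at h
    simp only [z, sub_mul, mul_sub]
    rw [sub_eq_sub_iff_sub_eq_sub]
    exact h.symm

/-- Product of central elements. -/
noncomputable def zw (l : List (Fin n)) : U := (l.map (z b φ)).prod

theorem zw_perm {l l' : List (Fin n)} (h : l.Perm l') : zw b φ l = zw b φ l' :=
  (h.map _).prod_eq' (List.pairwise_map.2 (List.pairwise_iff_forall_sublist.2 fun {a c} _ => z_comm b φ a _))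

theorem zw_sub_mem : ∀ l : List (Fin n),
    zw b φ l - PBW.mon b (l.flatMap (List.replicate p)) ∈ S b (p * l.length) ∧
      zw b φ l ∈ S b (p * l.length + 1)
  | [] => by
    have h : PBW.mon b ([] : List (Fin n)) = 1 := by simp [PBW.mon]
    have h' := mon_mem_S b (w := []) (m := p * ([] : List (Fin n)).length + 1) (by simp)
    rw [h] at h'
    exact ⟨by simp [zw, h], h'⟩
  | i :: l => by
    obtain ⟨h1, h2⟩ := zw_sub_mem l
    have hp := two_le_p (p := p)
    have hR : PBW.mon b (List.replicate p i) = ι k (b i) ^ p := by simp [PBW.mon]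
    have hR' : PBW.mon b (List.replicate p i) ∈ S b (p + 1) := mon_mem_S b (by simp)
    have key : zw b φ (i :: l) - PBW.mon b ((i :: l).flatMap (List.replicate p)) ∈ S b (p * (i :: l).length) := by
      rw [List.flatMap_cons, PBW.mon_append, show zw b φ (i :: l) = z b φ i * zw b φ l by simp [zw], z, ← hR]
      rw [show (PBW.mon b (List.replicate p i) - ι k (φ (b i))) * zw b φ l -
          PBW.mon b (List.replicate p i) * PBW.mon b (l.flatMap (List.replicate p)) =
          PBW.mon b (List.replicate p i) * (zw b φ l - PBW.mon b (l.flatMap (List.replicate p))) -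
            ι k (φ (b i)) * zw b φ l by noncomm_ring]
      refine sub_mem (S_mono b ?_ (mul_mem_S b hR' h1)) (S_mono b ?_ (mul_mem_S b (iota_mem_S b _) h2)) <;>
        simp only [List.length_cons, Nat.mul_succ] <;> omega
    refine ⟨key, ?_⟩
    rw [← sub_add_cancel (zw b φ (i :: l)) (PBW.mon b ((i :: l).flatMap (List.replicate p)))]
    refine add_mem (S_mono b (Nat.le_succ _) key) (mon_mem_S b ?_)
    have : ((i :: l).flatMap (List.replicate p)).length = p * (i :: l).length := by
      simp [List.length_flatMap, mul_comm, mul_add, add_comm]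
    omega

/-- The `p`-quotient of a word. -/
def quo (p : ℕ) (w : List (Fin n)) : List (Fin n) :=
  (List.finRange n).flatMap fun i => List.replicate (w.count i / p) i

/-- The `p`-remainder of a word. -/
def rem (p : ℕ) (w : List (Fin n)) : List (Fin n) :=
  (List.finRange n).flatMap fun i => List.replicate (w.count i % p) i

theorem count_flatMap_replicate (f : Fin n → ℕ) (j : Fin n) :
    ((List.finRange n).flatMap fun i => List.replicate (f i) i).count j = f j := by
  rw [List.count_flatMap]
  simp only [Function.comp_def, List.count_replicate, beq_iff_eq]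
  rw [← Fin.sum_univ_def]
  simp

theorem count_quo (w : List (Fin n)) (j : Fin n) : (quo p w).count j = w.count j / p :=
  count_flatMap_replicate _ j

theorem count_rem (w : List (Fin n)) (j : Fin n) : (rem p w).count j = w.count j % p :=
  count_flatMap_replicate _ j

theorem count_pow (l : List (Fin n)) (j : Fin n) : (l.flatMap (List.replicate p)).count j = p * l.count j := by
  induction l with
  | nil => simp
  | cons i l ih =>
    rw [List.flatMap_cons, List.count_append, ih, List.count_cons, List.count_replicate]
    by_cases h : i = j <;> simp [h, Nat.mul_succ, add_comm]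

theorem perm_quo_rem (w : List (Fin n)) : w.Perm ((quo p w).flatMap (List.replicate p) ++ rem p w) :=
  List.perm_iff_count.2 fun j => by
    rw [List.count_append, count_pow, count_quo, count_rem, Nat.div_add_mod]

/-- The triangular family. -/
noncomputable def E (w : List (Fin n)) : U := zw b φ (quo p w) * PBW.mon b (rem p w)

theorem E_sub_mem (w : List (Fin n)) : E b φ w - PBW.mon b w ∈ S b w.length := by
  have hlen := (perm_quo_rem (p := p) w).length_eq
  rw [List.length_append] at hlen
  rw [← sub_sub_sub_cancel_right _ (PBW.mon b w) (PBW.mon b ((quo p w).flatMap (List.replicate p) ++ rem p w))]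
  refine sub_mem ?_ (perm_mem_S b (perm_quo_rem w))
  rw [E, PBW.mon_append, ← sub_mul]
  refine S_mono b ?_ (mul_mem_S b (zw_sub_mem b φ _).1 (mon_mem_S b (Nat.lt_succ_self (rem p w).length)))
  have : ((quo p w).flatMap (List.replicate p)).length = p * (quo p w).length := by
    simp [List.length_flatMap, mul_comm]
  omega

/-- The triangular map. -/
noncomputable def T : U →ₗ[k] U := (B b).constr k fun s => E b φ s.1

theorem T_B (s : {l : List (Fin n) // l.SortedLE}) : T b φ (B b s) = E b φ s.1 := (B b).constr_basis k _ s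

theorem T_sub_mem {m : ℕ} {x : U} (hx : x ∈ S b (m + 1)) : T b φ x - x ∈ S b m := by
  have h : S b (m + 1) ≤ Submodule.span k (B b '' {s | s.1.length ≤ m}) := by
    refine Submodule.span_le.2 ?_
    rintro _ ⟨v, hv, rfl⟩
    simp only [Set.mem_ofPred_eq] at hv
    exact sortedSpan_mono b (Nat.lt_succ_iff.1 hv) (mon_mem_sorted b v)
  refine Submodule.span_induction (p := fun x _ => T b φ x - x ∈ S b m) ?_ ?_ ?_ ?_ (h hx)
  · rintro _ ⟨s, hs, rfl⟩
    rw [T_B, B_apply]
    exact S_mono b hs (E_sub_mem b φ s.1)
  · simp
  · intro a c _ _ ha hc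
    rw [map_add, add_sub_add_comm]
    exact add_mem ha hc
  · intro r a _ ha
    rw [map_smul, ← smul_sub]
    exact Submodule.smul_mem _ r ha

theorem S_zero : S b 0 = ⊥ := by simp [S]

theorem exists_mem_S (x : U) : ∃ m, x ∈ S b m := by
  induction (PBW.span_mon b (Submodule.mem_top (x := x))) using Submodule.span_induction with
  | mem x hx => obtain ⟨s, rfl⟩ := hx; exact ⟨_, mon_mem_S b (Nat.lt_succ_self _)⟩
  | zero => exact ⟨0, zero_mem _⟩
  | add a c _ _ ha hc =>
    obtain ⟨i, hi⟩ := ha
    obtain ⟨j, hj⟩ := hc
    exact ⟨max i j, add_mem (S_mono b (le_max_left _ _) hi) (S_mono b (le_max_right _ _) hj)⟩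
  | smul r a _ ha => obtain ⟨i, hi⟩ := ha; exact ⟨i, Submodule.smul_mem _ r hi⟩

theorem T_injective : Function.Injective (T b φ) := by
  refine (injective_iff_map_eq_zero _).2 fun x hx => ?_
  obtain ⟨m, hm⟩ := exists_mem_S b x
  induction m with
  | zero => simpa [S_zero] using hm
  | succ m ih => exact ih (by simpa [hx] using T_sub_mem b φ hm)

theorem T_surjective : Function.Surjective (T b φ) := by
  intro x
  obtain ⟨m, hm⟩ := exists_mem_S b x
  induction m generalizing x with
  | zero => exact ⟨0, by simpa [S_zero, eq_comm] using hm⟩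
  | succ m ih =>
    obtain ⟨y, hy⟩ := ih _ (neg_mem (T_sub_mem b φ hm))
    exact ⟨x + y, by rw [map_add, hy]; abel⟩

/-- The indices with non-zero quotient. -/
def big (p : ℕ) : Set {l : List (Fin n) // l.SortedLE} := {s | quo p s.1 ≠ []}

/-- The kernel of `U(L) → u(L)`. -/
noncomputable def I : Submodule k U := ⨆ i, LinearMap.range (LinearMap.mulLeft k (z b φ i))

theorem z_mul_mem (i : Fin n) (u : U) : z b φ i * u ∈ I b φ :=
  Submodule.mem_iSup_of_mem i ⟨u, rfl⟩

theorem I_eq : I b φ = (Submodule.span k (B b '' big p)).map (T b φ) := by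
  refine le_antisymm (iSup_le fun i => ?_) ?_
  · rintro _ ⟨u, rfl⟩
    obtain ⟨u, rfl⟩ := T_surjective b φ u
    rw [LinearMap.mulLeft_apply]
    have hu : u ∈ Submodule.span k (Set.range (B b)) := by rw [(B b).span_eq]; trivial
    induction hu using Submodule.span_induction with
    | mem u hu =>
      obtain ⟨s, rfl⟩ := hu
      have hs : s.1.SortedLE := s.2
      let t : {l : List (Fin n) // l.SortedLE} :=
        ⟨(List.replicate p i ++ s.1).insertionSort (· ≤ ·), (List.pairwise_insertionSort (· ≤ ·) _).sortedLE⟩
      have hc : ∀ j, t.1.count j = (if i = j then p else 0) + s.1.count j := fun j => by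
        rw [(List.perm_insertionSort (· ≤ ·) _).count_eq, List.count_append, List.count_replicate]
        simp
      have hp0 : 0 < p := (Fact.out : p.Prime).pos
      have hq : (quo p t.1).Perm (i :: quo p s.1) := List.perm_iff_count.2 fun j => by
        rw [count_quo, List.count_cons, count_quo, hc]
        by_cases h : i = j
        · subst h; simp [Nat.add_div_left _ hp0]
        · simp [h]
      have hr : rem p t.1 = rem p s.1 := by
        unfold rem
        congr 1
        funext j
        rw [hc]
        by_cases h : i = j <;> simp [h]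
      refine ⟨B b t, Submodule.subset_span ⟨t, fun h => by
        rw [h] at hq
        exact absurd hq.length_eq (by simp), rfl⟩, ?_⟩
      rw [T_B, T_B, E, E, hr, zw_perm b φ hq, ← mul_assoc]
      simp [zw]
    | zero => simp
    | add a c _ _ ha hc => rw [map_add, mul_add]; exact add_mem ha hc
    | smul r a _ ha => rw [map_smul, mul_smul_comm]; exact Submodule.smul_mem _ r ha
  · rw [Submodule.map_span, Submodule.span_le]
    rintro _ ⟨_, ⟨s, hs, rfl⟩, rfl⟩
    rw [SetLike.mem_coe, T_B, E]
    obtain ⟨i, l, hl⟩ : ∃ i l, quo p s.1 = i :: l := List.exists_cons_of_ne_nil hs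
    rw [hl, show zw b φ (i :: l) = z b φ i * zw b φ l by simp [zw], mul_assoc]
    exact z_mul_mem b φ i _

theorem mul_mem_I (a : U) {x : U} (hx : x ∈ I b φ) : a * x ∈ I b φ := by
  have h : I b φ ≤ (I b φ).comap (LinearMap.mulLeft k a) := iSup_le fun i => by
    rintro _ ⟨u, rfl⟩
    rw [Submodule.mem_comap, LinearMap.mulLeft_apply, LinearMap.mulLeft_apply, ← mul_assoc,
      ← (z_comm b φ i a).eq, mul_assoc]
    exact z_mul_mem b φ i _
  exact h hx

theorem pmap_sub_mem (x : L) : ι k (φ x) - ι k x ^ p ∈ I b φ := by
  let D : L → U := fun x => ι k (φ x) - ι k x ^ p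
  have hadd : ∀ x y, D (x + y) = D x + D y := fun x y => by
    simp only [D]
    rw [φ.map_add, map_sub, map_add, map_jacobson (p := p) (ι k) x y, map_add,
      add_pow_jacobson (R := k) (p := p)]
    abel
  have hsmul : ∀ (c : k) x, D (c • x) = c ^ p • D x := fun c x => by
    simp only [D]
    rw [φ.map_smul, map_smul, map_smul, smul_pow, smul_sub]
  show D x ∈ I b φ
  rw [← b.linearCombination_repr x, Finsupp.linearCombination_apply, Finsupp.sum]
  have h0 : D 0 = 0 := by simpa [zero_pow (Fact.out : p.Prime).ne_zero] using hsmul 0 0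
  refine Finset.sum_induction (fun i => (b.repr x) i • b i) (fun v => D v ∈ I b φ)
    (fun u v hu hv => by rw [hadd]; exact add_mem hu hv) (by rw [h0]; exact zero_mem _) fun i _ => ?_
  rw [hsmul]
  refine Submodule.smul_mem _ _ ?_
  have := z_mul_mem b φ i (-1)
  rwa [mul_neg, mul_one, z, neg_sub] at this

theorem eq_zero_of_iota_mem {x : L} (hx : ι k x ∈ I b φ) : x = 0 := by
  let s : Fin n → {l : List (Fin n) // l.SortedLE} := fun j => ⟨[j], (List.pairwise_singleton _ j).sortedLE⟩
  have hp := two_le_p (p := p)
  have hB : ∀ j, B b (s j) = ι k (b j) := fun j => by rw [B_apply]; simp [s, PBW.mon]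
  have hquo : ∀ j, quo p (s j).1 = [] := fun j => List.eq_nil_iff_forall_not_mem.2 fun a ha => by
    have h0 := List.count_pos_iff.2 ha
    rw [count_quo, Nat.div_eq_of_lt (lt_of_le_of_lt List.count_le_length (by simp [s]; omega))] at h0
    exact lt_irrefl _ h0
  have hT : T b φ (ι k x) = ι k x := by
    have : (T b φ).comp (ι k : L →ₗ⁅k⁆ U).toLinearMap = (ι k : L →ₗ⁅k⁆ U).toLinearMap := b.ext fun j => by
      show T b φ (ι k (b j)) = ι k (b j)
      rw [← hB, T_B, E, hquo, B_apply]
      have : rem p (s j).1 = (s j).1 := by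
        refine List.perm_singleton.1 (List.perm_iff_count.2 fun a => ?_)
        rw [count_rem, Nat.mod_eq_of_lt (lt_of_le_of_lt List.count_le_length (by simp [s]; omega))]
      simp [this, zw]
    exact LinearMap.congr_fun this x
  rw [I_eq] at hx
  obtain ⟨y, hy, hyx⟩ := hx
  obtain rfl : y = ι k x := T_injective b φ (hyx.trans hT.symm)
  refine b.repr.injective (Finsupp.ext fun j => ?_)
  rw [map_zero, Finsupp.zero_apply]
  have h1 : (B b).repr (ι k x) (s j) = b.repr x j := by
    conv_lhs => rw [← b.sum_repr x, map_sum, map_sum]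
    simp only [map_smul, ← hB, Module.Basis.repr_self, Finsupp.coe_finset_sum, Finset.sum_apply,
      Finsupp.coe_smul, Pi.smul_apply, smul_eq_mul]
    rw [Finset.sum_eq_single j]
    · simp
    · intro i _ hij
      rw [Finsupp.single_eq_of_ne (fun e => hij (List.singleton_injective (congrArg Subtype.val e)).symm), mul_zero]
    · simp
  rw [← h1, ← Finsupp.notMem_support_iff]
  intro hmem
  exact ((B b).mem_span_image.1 hy hmem) (hquo j)

theorem finite_quotient : Module.Finite k (U ⧸ I b φ) := by
  let f : Submodule.span k (B b '' (big p)ᶜ) →ₗ[k] U ⧸ I b φ :=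
    (I b φ).mkQ.comp ((T b φ).comp (Submodule.subtype _))
  have hfin : ((big p : Set {l : List (Fin n) // l.SortedLE})ᶜ).Finite := by
    refine ((List.finite_length_le (Fin n) (n * p)).preimage Subtype.val_injective.injOn).subset fun s hs => ?_
    have hq : quo p s.1 = [] := by simpa [big] using hs
    have hl := (perm_quo_rem (p := p) s.1).length_eq
    rw [hq] at hl
    show s.1.length ≤ n * p
    rw [hl]
    simp only [List.flatMap_nil, List.nil_append, rem, List.length_flatMap, List.length_replicate]
    refine (List.sum_le_card_nsmul _ p fun x hx => ?_).trans (by simp)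
    obtain ⟨i, -, rfl⟩ := List.mem_map.1 hx
    exact (Nat.mod_lt _ (Fact.out : p.Prime).pos).le
  have : Module.Finite k (Submodule.span k (B b '' (big p)ᶜ)) := Module.Finite.span_of_finite k (hfin.image _)
  refine Module.Finite.of_surjective f fun q => ?_
  obtain ⟨u, rfl⟩ := (I b φ).mkQ_surjective q
  obtain ⟨y, rfl⟩ := T_surjective b φ u
  obtain ⟨a, ha, c, hc, rfl⟩ : ∃ a ∈ Submodule.span k (B b '' (big p)ᶜ), ∃ c ∈ Submodule.span k (B b '' big p),
      a + c = y := Submodule.mem_sup.1 (by
    rw [← Submodule.span_union, ← Set.image_union, Set.compl_union_self, Set.image_univ, (B b).span_eq]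
    trivial)
  refine ⟨⟨a, ha⟩, ?_⟩
  have : (I b φ).mkQ (T b φ c) = 0 := by
    rw [Submodule.mkQ_apply, Submodule.Quotient.mk_eq_zero, I_eq]
    exact Submodule.mem_map_of_mem hc
  simp [f, map_add, this]

end Groth.Agent.PLie29.Faithful
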