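import Groth.Agent.PLie29.Extend
import Mathlib.Algebra.DualNumber
import Mathlib.Data.Matrix.Basic
import Mathlib.LinearAlgebra.Matrix.ToLin

/-! Matrices over the dual numbers as pairs of matrices, and the existence criterion for p-maps. -/

set_option autoImplicit false

universe u v

attribute [local instance 100] LieRing.ofAssociativeRing

namespace Groth.Agent.PLie29

open TrivSqZeroExt

variable {K : Type u} [Field K] {n : Type} [Fintype n] [DecidableEq n]

/-- The matrix A + εB. -/
def dmat (A B : Matrix n n K) : Matrix n n (DualNumber K) := Matrix.of fun i j => inl (A i j) + inr (B i j)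

omit [Fintype n] [DecidableEq n] in
theorem fst_dmat (A B : Matrix n n K) (i j : n) : fst (dmat A B i j) = A i j := by simp [dmat]

omit [Fintype n] [DecidableEq n] in
theorem snd_dmat (A B : Matrix n n K) (i j : n) : snd (dmat A B i j) = B i j := by simp [dmat]

omit [DecidableEq n] in
theorem dmat_mul (A B A' B' : Matrix n n K) :
    dmat A B * dmat A' B' = dmat (A * A') (A * B' + B * A') := by
  refine Matrix.ext fun i j => TrivSqZeroExt.ext ?_ ?_
  · simp only [Matrix.mul_apply, fst_sum, fst_mul, fst_dmat]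
  · simp only [Matrix.mul_apply, snd_sum, DualNumber.snd_mul, fst_dmat, snd_dmat, Matrix.add_apply,
      Finset.sum_add_distrib]

omit [Fintype n] [DecidableEq n] in
theorem dmat_inj {A B A' B' : Matrix n n K} : dmat A B = dmat A' B' ↔ A = A' ∧ B = B' := by
  refine ⟨fun h => ⟨Matrix.ext fun i j => ?_, Matrix.ext fun i j => ?_⟩, fun h => by rw [h.1, h.2]⟩
  · rw [← fst_dmat A B, h, fst_dmat]
  · rw [← snd_dmat A B, h, snd_dmat]

omit [Fintype n] [DecidableEq n] in
theorem sum_smul_dmat {ι : Type} [Fintype ι] (c : ι → DualNumber K) (A B : ι → Matrix n n K) :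
    ∑ k, c k • dmat (A k) (B k) =
      dmat (∑ k, fst (c k) • A k) (∑ k, (fst (c k) • B k + snd (c k) • A k)) := by
  refine Matrix.ext fun i j => TrivSqZeroExt.ext ?_ ?_
  · simp only [Matrix.sum_apply, fst_sum, fst_dmat, Matrix.smul_apply, smul_eq_mul, fst_mul]
  · simp only [Matrix.sum_apply, snd_sum, snd_dmat, Matrix.smul_apply, Matrix.add_apply, smul_eq_mul,
      DualNumber.snd_mul, fst_dmat]

theorem dmat_zero : dmat (0 : Matrix n n K) 0 = 0 := by
  refine Matrix.ext fun i j => TrivSqZeroExt.ext ?_ ?_ <;> simp [dmat]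

variable {p : ℕ} [Fact p.Prime] [CharP (DualNumber K) p]
variable {L : Type v} [LieRing L] [LieAlgebra (DualNumber K) L]
variable (bs : Module.Basis n (DualNumber K) L) (A B : n → Matrix n n K)

theorem toMatrix_ad (hb : ∀ k j i, bs.repr ⁅bs k, bs j⁆ i = inl (A k i j) + inr (B k i j)) (k : n) :
    LinearMap.toMatrix bs bs (LieAlgebra.ad (DualNumber K) L (bs k)) = dmat (A k) (B k) := by
  refine Matrix.ext fun i j => ?_
  rw [LinearMap.toMatrix_apply, LieAlgebra.ad_apply, hb]
  rfl

theorem nonempty_pmap_iff_dmat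
    (hb : ∀ k j i, bs.repr ⁅bs k, bs j⁆ i = inl (A k i j) + inr (B k i j)) :
    Nonempty (PLie.PMap (DualNumber K) p L) ↔
      ∀ k, ∃ α β : n → K, dmat (A k) (B k) ^ p =
        dmat (∑ l, α l • A l) (∑ l, (α l • B l + β l • A l)) := by
  rw [nonempty_pmap_iff bs]
  have key : ∀ k y, LieAlgebra.ad (DualNumber K) L (bs k) ^ p = LieAlgebra.ad (DualNumber K) L y ↔
      dmat (A k) (B k) ^ p = ∑ l, bs.repr y l • dmat (A l) (B l) := by
    intro k y
    rw [← (LinearMap.toMatrixAlgEquiv bs).injective.eq_iff, map_pow]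
    conv_lhs => arg 2; rw [← bs.sum_repr y, map_sum, map_sum]
    simp only [map_smul, ← toMatrix_ad bs A B hb]
    rfl
  refine forall_congr' fun k => ⟨fun ⟨y, hy⟩ => ?_, fun ⟨α, β, h⟩ => ?_⟩
  · exact ⟨fun l => fst (bs.repr y l), fun l => snd (bs.repr y l),
      by rw [(key k y).mp hy, sum_smul_dmat]⟩
  · refine ⟨∑ l, (inl (α l) + inr (β l) : DualNumber K) • bs l, (key k _).mpr ?_⟩
    rw [h, sum_smul_dmat]
    have hr : ∀ l, bs.repr (∑ l, (inl (α l) + inr (β l) : DualNumber K) • bs l) l =
        inl (α l) + inr (β l) := fun l => congrFun (bs.repr_sum_self _) l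
    simp only [hr, fst_add, fst_inl, fst_inr, snd_add, snd_inl, snd_inr, add_zero, zero_add]

end Groth.Agent.PLie29
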